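import Cfsg.Agent.Lib.FusionPStable.Basic
import Cfsg.Agent.Lib.Fusion.Local
import Cfsg.Agent.Lib.Fusion.Centric
import Mathlib.GroupTheory.SpecificGroups.Cyclic
import Mathlib.Tactic.Group

/-!
# Automizers seen in normalizers of centric radical subgroups
-/

set_option autoImplicit false

namespace CfsgLib.FusionPStable

open Cfsg Cfsg.FusionSystem CfsgLib.Fusion

variable {Ω : Type*} [Group Ω] {S : Subgroup Ω} {F : Cfsg.FusionSystem S}
variable {P Q R : Subgroup Ω} {p : ℕ}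

theorem IsQuadratic.pow_apply {G : Type*} [Group G] {χ : MulAut G} (h : IsQuadratic χ) (n : ℕ)
    (a : G) : (χ ^ n) a = a * (a⁻¹ * χ a) ^ n := by
  induction n with
  | zero => simp
  | succ n ih =>
    rw [pow_succ', MulAut.mul_apply, ih, map_mul, map_pow, h.apply_comm, pow_succ']
    simp [mul_assoc]

theorem IsQuadratic.pow_card_eq_one {G : Type*} [Group G] {χ : MulAut G} (h : IsQuadratic χ) :
    χ ^ Nat.card G = 1 :=
  MulEquiv.ext fun a => by rw [h.pow_apply, pow_card_eq_one', mul_one]; rfl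

theorem mulAut_commute_of_isCyclic {G : Type*} [Group G] (h : IsCyclic G) (α β : MulAut G) :
    Commute α β := by
  obtain ⟨g, hg⟩ := h.exists_zpow_surjective
  obtain ⟨a, ha⟩ := hg (α g)
  obtain ⟨b, hb⟩ := hg (β g)
  replace ha : g ^ a = α g := ha
  replace hb : g ^ b = β g := hb
  refine MulEquiv.ext fun x => ?_
  obtain ⟨n, rfl⟩ := hg x
  show α (β (g ^ n)) = β (α (g ^ n))
  simp only [map_zpow, ← ha, ← hb]
  rw [← zpow_mul g b, ← zpow_mul g a]
  simp only [← zpow_mul]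
  congr 1
  ring

theorem mem_autCore_of_isCyclic [Finite S] (hS : IsPGroup p S) (hQ : Q ≤ S) (hcyc : IsCyclic Q)
    {χ : MulAut Q} (hχ : χ ∈ F.autGroup Q) (hq : IsQuadratic χ) [Fact p.Prime] :
    χ ∈ autCore F p Q := by
  have : Finite Q := finite_of_le hQ
  obtain ⟨k, hk⟩ := IsPGroup.iff_card.1 (hS.to_le hQ)
  let A : Subgroup (F.autGroup Q) := Subgroup.zpowers ⟨χ, hχ⟩
  have hA : IsPGroup p A := by
    refine IsPGroup.of_card_dvd_pow (n := k) ?_
    rw [Nat.card_zpowers, orderOf_dvd_iff_pow_eq_one]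
    exact Subtype.ext (hk ▸ hq.pow_card_eq_one)
  have hAn : A.Normal := ⟨fun a ha g => by
    have : g * a = a * g := Subtype.ext (mulAut_commute_of_isCyclic hcyc g.1 a.1).eq
    rwa [this, mul_inv_cancel_right]⟩
  exact ⟨_, CfsgLib.Solvable.le_pCore hAn hA (Subgroup.mem_zpowers _), rfl⟩

/-- `R` covers all automorphisms induced on `Q`. -/
def Covers (F : Cfsg.FusionSystem S) (Q R : Subgroup Ω) : Prop :=
  ∃ hQR : Q ≤ R, ∀ α ∈ F.autGroup Q, ∃ β ∈ F.autGroup R,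
    ∀ x : Q, ((β ⟨x, hQR x.2⟩ : R) : Ω) = ((α x : Q) : Ω)

theorem Covers.refl (F : Cfsg.FusionSystem S) (Q : Subgroup Ω) : Covers F Q Q :=
  ⟨le_rfl, fun α hα => ⟨α, hα, fun _ => rfl⟩⟩

theorem Covers.trans {T : Subgroup Ω} (h : Covers F Q R) (h' : Covers F R T) : Covers F Q T := by
  obtain ⟨h1, h1'⟩ := h
  obtain ⟨h2, h2'⟩ := h'
  refine ⟨h1.trans h2, fun α hα => ?_⟩
  obtain ⟨β, hβ, hb⟩ := h1' α hα
  obtain ⟨γ, hγ, hc⟩ := h2' β hβ
  exact ⟨γ, hγ, fun x => (hc ⟨x, h1 x.2⟩).trans (hb x)⟩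

theorem Covers.transport (h : Covers F Q R) {R' : Subgroup Ω} {e : R ≃* R'} (he : IsFIso F e) :
    ∃ Q', F.IsConj Q Q' ∧ Covers F Q' R' := by
  obtain ⟨hQR, h'⟩ := h
  let φ : Q →* Ω := (R'.subtype.comp e.toMonoidHom).comp (Subgroup.inclusion hQR)
  have hφ : φ ∈ F.Hom Q := restrict_mem he hQR
  let f : Q ≃* φ.range := isoOfInjective (hom_inj hφ) rfl
  have hf : IsFIso F f := isFIso_isoOfInjective hφ rfl
  have hle : φ.range ≤ R' := by rintro _ ⟨x, rfl⟩; exact (e _).2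
  refine ⟨φ.range, ⟨φ, hφ, rfl⟩, hle, fun α hα => ?_⟩
  obtain ⟨β, hβ, hb⟩ := h' _ (hf.symm.congr_mem hα)
  refine ⟨MulAut.congr e β, he.congr_mem hβ, fun y => ?_⟩
  rw [congr_apply]
  have h1 : e.symm ⟨(y : Ω), hle y.2⟩ = ⟨((f.symm y : Q) : Ω), hQR (f.symm y).2⟩ := by
    apply e.injective
    rw [MulEquiv.apply_symm_apply]
    exact Subtype.ext (congrArg (fun t : φ.range => (t : Ω)) (f.apply_symm_apply y)).symm
  rw [h1]
  have h2 : β ⟨((f.symm y : Q) : Ω), hQR (f.symm y).2⟩ =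
      ⟨((f.symm (α y) : Q) : Ω), hQR (f.symm (α y)).2⟩ := Subtype.ext (by
    rw [hb (f.symm y), congr_apply]
    simp)
  rw [h2]
  exact congrArg (fun t : φ.range => (t : Ω)) (f.apply_symm_apply (α y))

/-- Preimage in `N_S(Q)` of `O_p(Aut_F(Q))`. -/
def coreLift (F : Cfsg.FusionSystem S) (p : ℕ) (Q : Subgroup Ω) : Subgroup Ω where
  carrier := {g | g ∈ S ∧ ∃ hg : g ∈ Subgroup.normalizer (Q : Set Ω), conjAut Q g hg ∈ autCore F p Q}
  one_mem' := ⟨S.one_mem, one_mem _, by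
    convert (autCore F p Q).one_mem
    exact map_one Q.normalizerMonoidHom⟩
  mul_mem' := by
    rintro a b ⟨ha, ha', ha''⟩ ⟨hb, hb', hb''⟩
    refine ⟨S.mul_mem ha hb, mul_mem ha' hb', ?_⟩
    convert (autCore F p Q).mul_mem ha'' hb''
    exact map_mul Q.normalizerMonoidHom ⟨a, ha'⟩ ⟨b, hb'⟩
  inv_mem' := by
    rintro a ⟨ha, ha', ha''⟩
    refine ⟨S.inv_mem ha, inv_mem ha', ?_⟩
    convert (autCore F p Q).inv_mem ha''
    exact map_inv Q.normalizerMonoidHom ⟨a, ha'⟩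

theorem coreLift_le : coreLift F p Q ≤ normalizerIn S Q := fun _ hg => ⟨hg.1, hg.2.1⟩

theorem centralizerIn_le_coreLift : centralizerIn S Q ≤ coreLift F p Q := fun g hg =>
  ⟨hg.1, centralizer_le_normalizer Q hg.2, by
    rw [(conjAut_eq_one_iff _).2 hg.2]; exact one_mem _⟩

theorem inn_le_autCore [Finite S] (hS : IsPGroup p S) (hQ : Q ≤ S) :
    Cfsg.Inn Q ≤ autCore F p Q := by
  intro α hα
  have hn := inn_subgroupOf_normal F Q
  have hp : IsPGroup p ((Cfsg.Inn Q).subgroupOf (F.autGroup Q)) := by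
    have h1 : IsPGroup p (Cfsg.Inn Q) := by
      rw [inn_eq_autInducedBy]
      exact isPGroup_autInducedBy (hS.to_le hQ) Q
    exact h1.comap_subtype
  exact ⟨⟨α, inn_le_autGroup F hQ hα⟩, CfsgLib.Solvable.le_pCore hn hp hα, rfl⟩

theorem le_coreLift [Finite S] (hS : IsPGroup p S) (hQ : Q ≤ S) : Q ≤ coreLift F p Q := fun g hg =>
  ⟨hQ hg, Subgroup.le_normalizer hg, inn_le_autCore hS hQ ⟨⟨g, hg⟩, MulEquiv.ext fun _ => rfl⟩⟩

theorem autCore_le_autInducedBy [Finite S] [Fact p.Prime] (hS : IsPGroup p S)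
    (hF : F.IsSaturated p) (hQ : F.IsFullyNormalized Q) : autCore F p Q ≤ autInducedBy S Q := by
  obtain ⟨-, T, hT⟩ := isFullyAutomized_of_isFullyNormalized hS hF hQ
  rintro _ ⟨α, hα, rfl⟩
  have h1 : α ∈ (T : Subgroup (F.autGroup Q)) := CfsgLib.Solvable.pCore_le_sylow T hα
  rwa [hT] at h1

theorem covers_coreLift [Finite S] [Fact p.Prime] (hS : IsPGroup p S)
    (hF : F.IsSaturated p) (hQ : F.IsFullyNormalized Q) : Covers F Q (coreLift F p Q) := by
  refine ⟨le_coreLift hS hQ.1, fun α hα => ?_⟩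
  have he : IsFIso F (α : Q ≃* Q) := (mem_autGroup_iff hQ.1).1 hα
  have hconj : ∀ g (hg : g ∈ coreLift F p Q),
      MulAut.congr (α : Q ≃* Q) (conjAut Q g (coreLift_le hg).2) ∈ autCore F p Q := fun g hg =>
    congr_mem_autCore he hg.2.2
  obtain ⟨ψ, hψ, hψN, hag⟩ := he.exists_extension (isReceptive_of_isFullyNormalized hS hF hQ)
    (le_coreLift hS hQ.1) coreLift_le
    fun g hg => autCore_le_autInducedBy hS hF hQ (hconj g hg)
  have hin : ∀ x, ψ x ∈ coreLift F p Q := fun x => by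
    refine ⟨(hψN x).1, (hψN x).2, ?_⟩
    have := hconj x x.2
    rwa [congr_conjAut_eq_of_extends (le_coreLift hS hQ.1) hag x.2 (coreLift_le x.2).2] at this
  have : Finite (coreLift F p Q) := finite_of_le (fun g hg => hg.1)
  obtain ⟨β, hβ, hb⟩ := exists_aut hψ (range_eq_of_le (hom_inj hψ) hin)
  exact ⟨β, hβ, fun x => (hb _).trans (hag x)⟩

theorem isCentric_coreLift [Finite S] [Fact p.Prime] (hS : IsPGroup p S)
    (hF : F.IsSaturated p) (hQ : F.IsFullyNormalized Q) : F.IsCentric (coreLift F p Q) := by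
  refine ⟨fun g hg => hg.1, ?_⟩
  rintro _ ⟨φ, hφ, rfl⟩
  have hQR := le_coreLift (F := F) hS hQ.1
  let φ₀ : Q →* Ω := φ.comp (Subgroup.inclusion hQR)
  have hconj : F.IsConj Q φ₀.range := ⟨φ₀, restrict_mem hφ hQR, rfl⟩
  have hcard := (isFullyCentralized_of_isFullyNormalized hS hF hQ).2 _ hconj
  have hC : ∀ c : centralizerIn S Q, φ ⟨c, centralizerIn_le_coreLift c.2⟩ ∈
      centralizerIn S φ₀.range := by
    intro c
    refine ⟨map_mem hφ _, ?_⟩
    show φ _ ∈ Subgroup.centralizer _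
    rw [Subgroup.mem_centralizer_iff]
    rintro _ ⟨x, rfl⟩
    show φ _ * φ _ = φ _ * φ _
    rw [← map_mul, ← map_mul]
    exact congrArg φ (Subtype.ext (Subgroup.mem_centralizer_iff.1 c.2.2 x x.2))
  let f : centralizerIn S Q → centralizerIn S φ₀.range := fun c => ⟨_, hC c⟩
  have hfi : Function.Injective f := fun a b hab => by
    have h1 := hom_inj hφ (congrArg Subtype.val hab)
    exact Subtype.ext (congrArg Subtype.val h1 :)
  have : Finite (centralizerIn S φ₀.range) := finite_of_le (centralizerIn_le _ _)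
  have hsurj : Function.Surjective f := by
    have hc : Nat.card (centralizerIn S Q) = Nat.card (centralizerIn S φ₀.range) :=
      le_antisymm (Nat.card_le_card_of_injective f hfi) hcard
    exact ((Nat.bijective_iff_injective_and_card f).2 ⟨hfi, hc⟩).2
  have hle : φ₀.range ≤ φ.range := by rintro _ ⟨x, rfl⟩; exact ⟨_, rfl⟩
  intro y hy
  have hy' : y ∈ centralizerIn S φ₀.range := ⟨hy.1, Subgroup.centralizer_le hle hy.2⟩
  obtain ⟨c, hc⟩ := hsurj ⟨y, hy'⟩
  exact ⟨⟨c, centralizerIn_le_coreLift c.2⟩, congrArg Subtype.val hc⟩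

/-- Every subgroup is conjugate to one covered by a fully normalized centric radical subgroup. -/
theorem exists_covers_radical [Finite S] [Fact p.Prime] (hS : IsPGroup p S)
    (hF : F.IsSaturated p) (hQ : Q ≤ S) :
    ∃ Q' R', F.IsConj Q Q' ∧ Covers F Q' R' ∧ F.IsFullyNormalized R' ∧ F.IsCentric R' ∧
      F.IsRadical p R' := by
  obtain ⟨Q₁, hQ₁, hQ₁n⟩ := exists_isFullyNormalized F hQ
  let s : Set (Subgroup Ω) := {R | F.IsCentric R ∧ ∃ Q', F.IsConj Q Q' ∧ Covers F Q' R}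
  have hne : s.Nonempty := ⟨coreLift F p Q₁, isCentric_coreLift hS hF hQ₁n, Q₁, hQ₁,
    covers_coreLift hS hF hQ₁n⟩
  obtain ⟨R, ⟨hRc, Q', hQ', hcov⟩, hmax⟩ : ∃ R ∈ s, ∀ T ∈ s, Nat.card T ≤ Nat.card R := by
    let P' : ℕ → Prop := fun n => ∃ R ∈ s, Nat.card R = n
    have hb : ∀ R ∈ s, Nat.card R ≤ Nat.card S := fun R hR =>
      Nat.card_le_card_of_injective _ (Subgroup.inclusion_injective hR.1.1)
    obtain ⟨R₀, hR₀⟩ := hne
    classical
    have hspec := Nat.findGreatest_spec (P := P') (hb R₀ hR₀) ⟨R₀, hR₀, rfl⟩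
    obtain ⟨R, hR, hRn⟩ := hspec
    exact ⟨R, hR, fun T hT => hRn ▸ Nat.le_findGreatest (hb T hT) ⟨T, hT, rfl⟩⟩
  obtain ⟨R', hRR', hR'⟩ := exists_isFullyNormalized F hRc.1
  obtain ⟨e, he⟩ := exists_iso_of_isConj hRR'
  obtain ⟨Q'', hQ'', hcov'⟩ := hcov.transport he
  have hR'c := isCentric_of_isConj hRc hRR'
  refine ⟨Q'', R', isConj_trans hQ' hQ'', hcov', hR', hR'c, hR'.1, ?_⟩
  have hle := le_coreLift (F := F) hS hR'.1
  have hmem : coreLift F p R' ∈ s := ⟨isCentric_coreLift hS hF hR', Q'', isConj_trans hQ' hQ'',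
    hcov'.trans (covers_coreLift hS hF hR')⟩
  have : Finite (coreLift F p R') := finite_of_le (fun g hg => hg.1)
  have heq : R' = coreLift F p R' := Subgroup.eq_of_le_of_card_ge hle
    ((hmax _ hmem).trans (Nat.card_congr e.toEquiv).le)
  refine le_antisymm ?_ (inn_le_autCore hS hR'.1)
  intro α hα
  obtain ⟨g, hg, hgS, rfl⟩ := exists_eq_conjAut (autCore_le_autInducedBy hS hF hR' hα)
  have hgR : g ∈ R' := heq ▸ ⟨hgS, hg, hα⟩
  exact ⟨⟨g, hgR⟩, MulEquiv.ext fun _ => rfl⟩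

/-- Automorphisms covered by `R` belong to the normalizer system of `R`. -/
theorem Covers.autGroup_le (h : Covers F Q R) (hR : R ≤ S)
    {N : Cfsg.FusionSystem (normalizerIn S R)} (hN : F.IsNormalizerSystem R N) :
    F.autGroup Q ≤ N.autGroup Q := by
  obtain ⟨hQR, h'⟩ := h
  have hQN : Q ≤ normalizerIn S R := hQR.trans (le_normalizerIn hR)
  intro α hα
  obtain ⟨β, hβ, hb⟩ := h' α hα
  rw [mem_autGroup_iff_hom hQN, hN Q]
  refine ⟨(mem_autGroup_iff_hom (hQR.trans hR)).1 hα, hQN, fun x => hQN (α x).2,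
    R.subtype.comp (β.toMonoidHom.comp (Subgroup.inclusion (sup_le hQR le_rfl))),
    mem_of_restrict ((mem_autGroup_iff_hom hR).1 hβ) (sup_le hQR le_rfl) _ fun _ => rfl,
    fun x => hb x, ?_⟩
  ext y
  rw [mem_map_subgroupOf]
  constructor
  · rintro ⟨x, hx, -, rfl⟩
    exact (β _).2
  · intro hy
    refine ⟨(β.symm ⟨y, hy⟩ : R), le_sup_right (a := Q) (β.symm ⟨y, hy⟩).2, (β.symm ⟨y, hy⟩).2, ?_⟩
    exact congrArg (fun t : R => (t : Ω)) (β.apply_symm_apply ⟨y, hy⟩)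

theorem normalizer_autGroup_le (hR : R ≤ S) {N : Cfsg.FusionSystem (normalizerIn S R)}
    (hN : F.IsNormalizerSystem R N) (hQ : Q ≤ normalizerIn S R) :
    N.autGroup Q ≤ F.autGroup Q := by
  intro α hα
  rw [mem_autGroup_iff_hom hQ, hN Q] at hα
  exact (mem_autGroup_iff_hom (hQ.trans (normalizerIn_le S R))).2 hα.1

theorem isPStable_normalizer [Finite S] (h : IsPStable F p) (hR : R ≤ S)
    {N : Cfsg.FusionSystem (normalizerIn S R)} (hN : F.IsNormalizerSystem R N) :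
    IsPStable N p := fun Q hQ χ hχ hq => by
  have hle := normalizer_autGroup_le hR hN hQ.1
  exact mem_map_pCore_of_le hle hχ (h.of_le (hQ.1.trans (normalizerIn_le S R)) (hle hχ) hq)

end CfsgLib.FusionPStable
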