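import Cfsg.Agent.Lib.Fusion.Saturation
import Cfsg.Agent.Lib.Solvable.Core

/-!
# Quadratic automorphisms and `O_p(Aut_F(Q))`
-/

set_option autoImplicit false

namespace CfsgLib.FusionPStable

open Cfsg Cfsg.FusionSystem CfsgLib.Fusion

variable {Ω : Type*} [Group Ω] {S : Subgroup Ω} {F : Cfsg.FusionSystem S}
variable {P Q : Subgroup Ω} {p : ℕ}

/-- `χ(a⁻¹) a χ(a⁻¹) χ²(a) = 1` for all `a`. -/
def IsQuadratic {G : Type*} [Group G] (χ : MulAut G) : Prop :=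
  ∀ a : G, (χ a⁻¹) * a * (χ a⁻¹) * (χ (χ a)) = 1

theorem IsQuadratic.congr {G H : Type*} [Group G] [Group H] (e : G ≃* H) {χ : MulAut G}
    (h : IsQuadratic χ) : IsQuadratic (MulAut.congr e χ) := fun b => by
  obtain ⟨a, rfl⟩ := e.surjective b
  rw [← map_inv e a]
  show e (χ (e.symm (e a⁻¹))) * e a * e (χ (e.symm (e a⁻¹))) *
    e (χ (e.symm (e (χ (e.symm (e a)))))) = 1
  simp only [MulEquiv.symm_apply_apply, ← map_mul, h a, map_one]

theorem IsQuadratic.apply_comm {G : Type*} [Group G] {χ : MulAut G} (h : IsQuadratic χ) (a : G) :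
    χ (a⁻¹ * χ a) = a⁻¹ * χ a := by
  have h1 := h a
  have e : (χ a⁻¹) * a * (χ a⁻¹) * (χ (χ a)) = (a⁻¹ * χ a)⁻¹ * χ (a⁻¹ * χ a) := by
    simp [map_mul, mul_assoc]
  rw [e, inv_mul_eq_one] at h1
  exact h1.symm

theorem isQuadratic_of_apply_comm {G : Type*} [Group G] {χ : MulAut G}
    (h : ∀ a, χ (a⁻¹ * χ a) = a⁻¹ * χ a) : IsQuadratic χ := fun a => by
  have e : (χ a⁻¹) * a * (χ a⁻¹) * (χ (χ a)) = (a⁻¹ * χ a)⁻¹ * χ (a⁻¹ * χ a) := by
    simp [map_mul, mul_assoc]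
  rw [e, h, inv_mul_cancel]

/-- `O_p(Aut_F(Q))` as a subgroup of `Aut(Q)`. -/
def autCore (F : Cfsg.FusionSystem S) (p : ℕ) (Q : Subgroup Ω) : Subgroup (MulAut Q) :=
  (Cfsg.pCore p (F.autGroup Q)).map (F.autGroup Q).subtype

theorem autCore_le (F : Cfsg.FusionSystem S) (p : ℕ) (Q : Subgroup Ω) :
    autCore F p Q ≤ F.autGroup Q := Subgroup.map_subtype_le _

theorem congr_mem_autCore {e : P ≃* Q} (he : IsFIso F e) {χ : MulAut P}
    (hχ : χ ∈ autCore F p P) : MulAut.congr e χ ∈ autCore F p Q := by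
  obtain ⟨α, hα, rfl⟩ := hχ
  exact ⟨he.autEquiv α, (CfsgLib.Solvable.map_pCore_mulEquiv (p := p) he.autEquiv).le ⟨α, hα, rfl⟩,
    rfl⟩

theorem congr_mem_autCore_iff {e : P ≃* Q} (he : IsFIso F e) {χ : MulAut P} :
    MulAut.congr e χ ∈ autCore F p Q ↔ χ ∈ autCore F p P := by
  refine ⟨fun h => ?_, congr_mem_autCore he⟩
  have := congr_mem_autCore he.symm h
  have e1 : MulAut.congr e.symm (MulAut.congr e χ) = χ := MulEquiv.ext fun x => by simp
  rwa [e1] at this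

/-- `O_p` restricted to a subgroup lies in `O_p` of the subgroup. -/
theorem mem_map_pCore_of_le {G : Type*} [Group G] {A B : Subgroup G} (hAB : A ≤ B) {x : G}
    (hxA : x ∈ A) (hx : x ∈ (Cfsg.pCore p B).map B.subtype) :
    x ∈ (Cfsg.pCore p A).map A.subtype := by
  obtain ⟨y, hy, rfl⟩ := hx
  haveI := CfsgLib.Solvable.pCore_normal p B
  refine ⟨⟨_, hxA⟩, CfsgLib.Solvable.le_pCore
    (N := (Cfsg.pCore p B).comap (Subgroup.inclusion hAB)) inferInstance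
    ((CfsgLib.Solvable.pCore_isPGroup p B).comap_of_injective _ (Subgroup.inclusion_injective hAB))
    ?_, rfl⟩
  show Subgroup.inclusion hAB ⟨_, hxA⟩ ∈ Cfsg.pCore p B
  have : Subgroup.inclusion hAB ⟨B.subtype y, hxA⟩ = y := Subtype.ext rfl
  rw [this]
  exact hy

/-- `F` is `p`-stable. -/
def IsPStable (F : Cfsg.FusionSystem S) (p : ℕ) : Prop :=
  ∀ Q : Subgroup Ω, F.IsFullyNormalized Q → ∀ χ : MulAut Q, χ ∈ F.autGroup Q →
    IsQuadratic χ → χ ∈ autCore F p Q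

theorem IsPStable.of_le [Finite S] (h : IsPStable F p) (hQ : Q ≤ S) {χ : MulAut Q}
    (hχ : χ ∈ F.autGroup Q) (hq : IsQuadratic χ) : χ ∈ autCore F p Q := by
  obtain ⟨R, hQR, hR⟩ := exists_isFullyNormalized F hQ
  obtain ⟨e, he⟩ := exists_iso_of_isConj hQR
  rw [← congr_mem_autCore_iff he]
  exact h R hR _ (he.congr_mem hχ) (hq.congr e)

end CfsgLib.FusionPStable
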