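import Cfsg.Agent.Lib.FusionPStable.ZJNormal
import Cfsg.Agent.Lib.PLocal.QdStable
import Cfsg.Agent.Lib.FusionQuot.Solvable
import Cfsg.Agent.S5246

/-!
The fusion system of a `Qd(p)`-free group, `p` odd, is solvable.
-/

set_option autoImplicit false

namespace CfsgLib.FusionPStable

open Cfsg Cfsg.FusionSystem CfsgLib.Fusion CfsgLib.FusionQuot CfsgLib.ZJCenter CfsgLib.FusionZJ CfsgLib.PLoc

universe u

variable {p : ℕ}

/-- The quotient of the normalizer of a normal subgroup of a group fusion system is a morphism. -/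
theorem isMorphism_group_quotient {G : Type*} [Group G] {S W M : Subgroup G} [(W.subgroupOf M).Normal]
    (hW : (Cfsg.groupFusionSystem S).IsNormal W) (hM : M = Subgroup.normalizer (W : Set G)) (hSM : S ≤ M)
    [Finite W] {S' : Subgroup (M ⧸ W.subgroupOf M)}
    (hS' : ∀ s : S, (QuotientGroup.mk' (W.subgroupOf M)).comp (Subgroup.inclusion hSM) s ∈ S') :
    (Cfsg.groupFusionSystem S).IsMorphism (Cfsg.groupFusionSystem S')
      ((QuotientGroup.mk' (W.subgroupOf M)).comp (Subgroup.inclusion hSM)) := by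
  set θ := (QuotientGroup.mk' (W.subgroupOf M)).comp (Subgroup.inclusion hSM) with hθ
  refine ⟨hS', fun R φ hφ => ?_⟩
  obtain ⟨ψ, ⟨-, -, g, hg⟩, hag, hmap⟩ := hW.2 R φ hφ
  have hgM : g ∈ M := by
    rw [hM]
    refine Subgroup.mem_normalizer_fintype fun w hw => ?_
    rw [← hg ⟨w, le_sup_right (a := R) hw⟩]
    exact hmap.le (Subgroup.mem_map_of_mem ψ (Subgroup.mem_subgroupOf.2 hw))
  have hφx : ∀ x : R, φ x = g * (x : G) * g⁻¹ := fun x => by
    rw [← hag x]
    exact hg _
  set c := QuotientGroup.mk' (W.subgroupOf M) ⟨g, hgM⟩ with hc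
  have key : ∀ x : R, c * θ ⟨x, dom_le hφ x.2⟩ * c⁻¹ = θ ⟨φ x, map_mem hφ x⟩ := fun x => by
    rw [hc, hθ, MonoidHom.comp_apply, MonoidHom.comp_apply, ← map_inv, ← map_mul, ← map_mul]
    exact congrArg _ (Subtype.ext (hφx x).symm)
  have hle : imageAlong θ R ≤ S' := by
    rintro _ ⟨x, -, rfl⟩
    exact hS' x
  refine ⟨(MulAut.conj c).toMonoidHom.comp (imageAlong θ R).subtype, ⟨hle, ?_, c, fun x => rfl⟩,
    dom_le hφ, fun x => map_mem hφ x,
    fun x => Subgroup.mem_map_of_mem θ (Subgroup.mem_subgroupOf.2 x.2), fun x => key x⟩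
  rintro ⟨_, x, hx, rfl⟩
  show c * θ x * c⁻¹ ∈ S'
  rw [show x = ⟨((⟨x, hx⟩ : R) : G), dom_le hφ (⟨x, hx⟩ : R).2⟩ from rfl, key]
  exact hS' _

theorem scChain_of_qdFree [Fact p.Prime] (hp2 : p ≠ 2) :
    ∀ (n : ℕ) (G : Type u) [Group G] [Finite G], Nat.card G = n → ¬ HasQdSection p G →
      ∀ P : Sylow p G, SCChain (Cfsg.groupFusionSystem (P : Subgroup G)) ⊥ (P : Subgroup G) := by
  intro n
  induction n using Nat.strong_induction_on with
  | _ n ih =>
  intro G _ _ hn hqd P
  classical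
  by_cases hP1 : (P : Subgroup G) = ⊥
  · rw [hP1]
    exact Relation.ReflTransGen.refl
  set F := Cfsg.groupFusionSystem (P : Subgroup G) with hFdef
  have hF := CfsgLib.Fusion.groupFusionSystem_isSaturated P
  have hst : IsPStable F p :=
    (Cfsg.Agent.S5246.result hp2 P).1 ((isNormalizerPStable_or_qd hp2 G).resolve_right hqd)
  set W := zj 0 (P : Subgroup G) with hWdef
  have hW : F.IsNormal W := isNormal_zj hp2 P.2 hF hst (stronglyClosed_self F)
  have hWP : W ≤ (P : Subgroup G) := hW.1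
  have hWne : W ≠ ⊥ := zj_ne_bot_sub P.2 le_rfl hP1
  set M := Subgroup.normalizer (W : Set G) with hMdef
  have hPM : (P : Subgroup G) ≤ M := stronglyClosed_le_normalizer (stronglyClosed_of_isNormal hW)
  have hWn : (W.subgroupOf M).Normal := Subgroup.normal_in_normalizer
  have hWM : W ≤ M := Subgroup.le_normalizer
  set π := QuotientGroup.mk' (W.subgroupOf M) with hπdef
  set θ := π.comp (Subgroup.inclusion hPM) with hθdef
  set T := (P.subtype hPM).mapSurjective (QuotientGroup.mk'_surjective (W.subgroupOf M)) with hTdef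
  have hθT : θ.range = (T : Subgroup (M ⧸ W.subgroupOf M)) := by
    rw [hθdef, MonoidHom.range_comp, Subgroup.inclusion_range]
    rfl
  have hlt : Nat.card (M ⧸ W.subgroupOf M) < n := by
    have h1 := Subgroup.card_eq_card_quotient_mul_card_subgroup (W.subgroupOf M)
    have h2 : 1 < Nat.card (W.subgroupOf M) := by
      rw [Finite.one_lt_card_iff_nontrivial, Subgroup.nontrivial_iff_ne_bot]
      intro h
      exact hWne ((Subgroup.subgroupOf_eq_bot.1 h).eq_bot_of_le hWM)
    have h3 := Subgroup.card_le_card_group M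
    have h4 : 0 < Nat.card (M ⧸ W.subgroupOf M) := Nat.card_pos
    have h5 := Nat.mul_lt_mul_of_pos_left h2 h4
    omega
  have hD := ih _ hlt (M ⧸ W.subgroupOf M) rfl
    (fun h => hqd (hasQdSection_of_subgroup M
      (hasQdSection_of_surjective (QuotientGroup.mk'_surjective _) h))) T
  have hmor := isMorphism_group_quotient (S' := (T : Subgroup (M ⧸ W.subgroupOf M))) hW rfl hPM
    (fun s => hθT ▸ ⟨s, rfl⟩)
  have h1 := scChain_preimageAlong hmor hD
  have e1 : preimageAlong θ ⊥ = W := by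
    refine le_antisymm (fun x hx => ?_) fun x hx => ?_
    · obtain ⟨hxP, h⟩ := mem_preimageAlong.1 hx
      rw [Subgroup.mem_bot, hθdef, MonoidHom.comp_apply, hπdef, QuotientGroup.mk'_apply,
        QuotientGroup.eq_one_iff] at h
      exact h
    · refine mem_preimageAlong_of_eq_one (hWP hx) ?_
      rw [hθdef, MonoidHom.comp_apply, hπdef, QuotientGroup.mk'_apply, QuotientGroup.eq_one_iff]
      exact hx
  have e2 : preimageAlong θ (T : Subgroup (M ⧸ W.subgroupOf M)) = (P : Subgroup G) :=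
    le_antisymm (preimageAlong_le _) fun x hx => mem_preimageAlong.2 ⟨hx, hθT ▸ ⟨_, rfl⟩⟩
  rw [e1, e2] at h1
  refine Relation.ReflTransGen.head ⟨stronglyClosed_bot F, stronglyClosed_of_isNormal hW, bot_le, ?_⟩ h1
  rw [Subgroup.commutator_eq_bot_iff_le_centralizer.2]
  intro a ha
  exact Subgroup.centralizer_le (SetLike.coe_subset_coe.2 (inf_le_left : W ≤ joinMaxAb 0 (P : Subgroup G))) ha.2

end CfsgLib.FusionPStable
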